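/- Duality for finite morphisms: `f_* f^! = RHom(f_*O, -)`. -/
import Groth.Prelude.Def_Dual3
import Groth.Agent.FMTool.Proj2
import Groth.Agent.RHomCx.Props
import Groth.Agent.RHomCx.Main
import Groth.Agent.DQPush.Affine
import Groth.Agent.DQPush.Basic
import Groth.Agent.DQCoh.Pullback
import Groth.Agent.DQCoh.PCTensor
import Groth.Agent.PerfPush.Unit
import Groth.Agent.QC.Localisation
import Groth.Agent.Devissage.Piece

set_option autoImplicit false
set_option backward.isDefEq.respectTransparency false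
set_option backward.isDefEq.respectTransparency.types false
set_option linter.style.haveILetI false
universe u

open CategoryTheory Limits AlgebraicGeometry HomologicalComplex

attribute [local instance] HasDerivedCategory.standard

namespace Groth.Agent.FinDual

open Groth.Agent.KFlat Groth.Agent.RHomCx

/-- uniqueness of partially defined right adjoints -/
theorem nonempty_natIso_restrict {B C D : Type*} [Category B] [Category C] [Category D] {ι : C ⥤ D}
    (hι : ι.FullyFaithful) {L : C ⥤ C} {R : C ⥤ C} (adj : L ⊣ R) {L' R' : D ⥤ D} (adj' : L' ⊣ R')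
    (e : L ⋙ ι ≅ ι ⋙ L') (b : B ⥤ C) (R₀ : B ⥤ C) (e₀ : R₀ ⋙ ι ≅ b ⋙ ι ⋙ R') :
    Nonempty (R₀ ≅ b ⋙ R) := by
  let ε' : R₀ ⋙ L ⋙ ι ⟶ b ⋙ ι :=
    Functor.whiskerLeft R₀ e.hom ≫ (Functor.associator _ _ _).inv ≫ Functor.whiskerRight e₀.hom L' ≫
      (Functor.associator _ _ _).hom ≫ Functor.whiskerLeft b ((Functor.associator _ _ _).hom ≫
        Functor.whiskerLeft ι adj'.counit ≫ ι.rightUnitor.hom)
  let ε : ∀ K : B, L.obj (R₀.obj K) ⟶ b.obj K := fun K => hι.preimage (ε'.app K)
  let t : R₀ ⟶ b ⋙ R :=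
    { app := fun K => adj.homEquiv _ _ (ε K)
      naturality := fun K K' u => by
        refine (adj.homEquiv_naturality_left _ _).symm.trans
          (Eq.trans (congrArg _ ?_) (adj.homEquiv_naturality_right _ _))
        refine hι.map_injective ?_
        simp only [ε, Functor.map_comp, hι.map_preimage]
        exact ε'.naturality u }
  suffices ∀ K, IsIso (t.app K) from ⟨@asIso _ _ _ _ t (NatIso.isIso_of_isIso_app t)⟩
  intro K
  rw [isIso_iff_yoneda_map_bijective]
  intro M
  refine bijective_comp_of_mate adj (ε K) ?_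
  let Ψ : (M ⟶ R₀.obj K) ≃ (L.obj M ⟶ b.obj K) :=
    hι.homEquiv.trans ((Iso.homToEquiv (e₀.app K)).trans ((adj'.homEquiv _ _).symm.trans
      ((Iso.homFromEquiv (e.app M).symm).trans hι.homEquiv.symm)))
  convert Ψ.bijective using 1
  funext g
  refine hι.map_injective ?_
  rw [Functor.map_comp]
  change ι.map (L.map g) ≫ ι.map (hι.preimage (ε'.app K)) =
    ι.map (hι.preimage (e.hom.app M ≫ (adj'.homEquiv _ _).symm (ι.map g ≫ e₀.hom.app K)))
  rw [hι.map_preimage, hι.map_preimage, adj'.homEquiv_counit, Functor.map_comp]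
  simp only [ε', NatTrans.comp_app, Functor.whiskerLeft_app, Functor.whiskerRight_app, Functor.associator_inv_app,
    Functor.associator_hom_app, Functor.rightUnitor_hom_app, Functor.comp_obj, Functor.id_obj, Category.comp_id,
    Category.id_comp, Category.assoc]
  exact (reassoc_of% (e.hom.naturality g)) _

variable {X Y : Scheme.{u}}

/-- `- ⊗^L O = 𝟭` -/
theorem nonempty_lt_unit_nat
    [DCoh.HasLTensorCx ((single X.Modules (ComplexShape.up ℤ) 0).obj (Coh.structureModule X))] :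
    Nonempty (DCoh.LTensorCx ((single X.Modules (ComplexShape.up ℤ) 0).obj (Coh.structureModule X)) ≅
      𝟭 (DCoh.D X)) := by
  have hK : DCoh.IsKFlat ((single X.Modules (ComplexShape.up ℤ) 0).obj (Coh.structureModule X)) :=
    PerfLocus.isKFlat_sg 0 (DerPerf.isFlat_structureModule X)
  exact ⟨Localization.liftNatIso DerivedCategory.Q (HomologicalComplex.quasiIso X.Modules (ComplexShape.up ℤ))
    (DerivedCategory.Q ⋙ DCoh.LTensorCx ((single X.Modules (ComplexShape.up ℤ) 0).obj (Coh.structureModule X)))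
    (DerivedCategory.Q ⋙ 𝟭 (DCoh.D X)) _ _
    (FMTool.ltOnKer hK (𝟭 _) ≪≫ Functor.isoWhiskerRight feUnitIso DerivedCategory.Q)⟩

/-- **duality for a finite morphism** -/
theorem nonempty_rightAdjoint_finite [IsNoetherian X] [IsNoetherian Y] (f : Y ⟶ X) [IsFinite f] [DCoh.HasRpush f]
    (hf : DCoh.RpushPreservesQCoh f) (a : DCoh.DQCoh X ⥤ DCoh.DQCoh Y) (adj : DCoh.RpushQ f hf ⊣ a)
    (E : CochainComplex X.Modules ℤ)
    (hE : Nonempty (DCoh.toD X E ≅ DCoh.inD X ((Scheme.Modules.pushforward f).obj (Coh.structureModule Y))))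
    [DCoh.HasLTensorCx E] [DCoh.HasRSheafHom E] :
    Nonempty (Dual3.bddι X ⋙ a ⋙ DCoh.RpushQ f hf ⋙ ObjectProperty.ι _ ≅
      Dual3.bddι X ⋙ ObjectProperty.ι _ ⋙ DCoh.RSheafHom E) := by
  obtain ⟨eE⟩ := hE
  haveI := KFlat.hasLpull f
  let sg := (single Y.Modules (ComplexShape.up ℤ) 0).obj (Coh.structureModule Y)
  haveI := hasLTensorCx sg
  have hOq : ∀ n, Coh.IsQCoh (sg.X n) := fun n => by
    by_cases hn : n = 0
    · subst hn
      exact QC.isQCoh_of_iso (singleObjXSelf (ComplexShape.up ℤ) 0 _).symm (QC.isQCoh_unit Y)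
    · exact DQCoh.isQCoh_of_isZero (isZero_single_obj_X _ _ _ _ hn)
  have hsgq : DCoh.IsQCohD (DCoh.toD Y sg) := fun i =>
    QC.isQCoh_of_iso (KFlat.hdIso sg i).symm (DQPush.isQCoh_homology sg hOq i)
  haveI : IsIso ((DQPush.unitQ f).app sg) := by
    haveI := DQPush.isIso_unit_of_affine f sg hOq
    dsimp only [DQPush.unitQ, AcycDef.unitQ]
    infer_instance
  let eN : DCoh.toD X E ≅ (DCoh.Rpush f).obj (DCoh.toD Y sg) :=
    eE ≪≫ (DerivedCategory.singleFunctorIsoCompQ X.Modules 0).app _ ≪≫ DerivedCategory.Q.mapIso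
      ((singleMapHomologicalComplex (Scheme.Modules.pushforward f) (ComplexShape.up ℤ) 0).app
        (Coh.structureModule Y)).symm ≪≫ asIso ((DQPush.unitQ f).app sg)
  obtain ⟨P⟩ := FMTool.nonempty_projNat₂ f sg hsgq E eN
  obtain ⟨u⟩ := nonempty_lt_unit_nat (X := Y)
  obtain ⟨adj₀⟩ := DerPush.nonempty_lpull_adj_rpush f
  have hq : Dual3.LpullPreservesQCoh f := fun K hK => DQCoh.isQCohD_Lpull f K hK
  let adjQ : Dual3.LpullQ f hq ⊣ DCoh.RpushQ f hf :=
    adj₀.restrictFullyFaithful (ObjectProperty.fullyFaithfulι _) (ObjectProperty.fullyFaithfulι _)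
      (Iso.refl _) (Iso.refl _)
  let e : (Dual3.LpullQ f hq ⋙ DCoh.RpushQ f hf) ⋙ ObjectProperty.ι _ ≅
      ObjectProperty.ι (DCoh.IsQCohD (X := X)) ⋙ DCoh.LTensorCx E :=
    NatIso.ofComponents (fun M => (DCoh.Rpush f).mapIso (u.symm.app _) ≪≫ (P.app M).symm) fun {M N} g => by
      have h1 := congrArg (DCoh.Rpush f).map (u.inv.naturality ((DCoh.Lpull f).map g.hom))
      rw [Functor.map_comp, Functor.map_comp] at h1
      have h2 := P.inv.naturality g
      exact (Category.assoc _ _ _).symm.trans ((congrArg (· ≫ _) h1).trans ((Category.assoc _ _ _).trans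
        (Eq.trans (congrArg (_ ≫ ·) h2) (Category.assoc _ _ _).symm)))
  have hcoh : DCoh.IsCohD (DCoh.toD X E) := fun i => by
    refine K0Coh.isCoh_of_iso ((DerivedCategory.homologyFunctor _ i).mapIso
      (eE ≪≫ (DerivedCategory.singleFunctorIsoCompQ X.Modules 0).app _) ≪≫ KFlat.hdIso _ i).symm ?_
    by_cases hi : i = 0
    · subst hi
      exact K0Coh.isCoh_of_iso (singleObjHomologySelfIso (ComplexShape.up ℤ) 0 _).symm
        (haveI := (QC.isQCoh_unit Y); QC.isCoh_pushforward_of_isFinite f (Devissage.isCoh_unit Y).2)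
    · exact K0Coh.isCoh_of_isZero (isZero_single_obj_homology _ _ _ _ hi)
  have hR : ∀ K : (Dual3.IsBddBelowQ X).FullSubcategory,
      DCoh.IsQCohD ((DCoh.RSheafHom E).obj K.obj.obj) := fun K i => by
    obtain ⟨n, hn⟩ := K.property
    haveI := hn
    exact prop_RSheafHom_pseudoCoherent locClass_qcoh trivial E (n - i - 1)
      (DQCoh.pc_of_isCohD _ hcoh 0 (fun k hk => (ShortComplex.isZero_homology_of_isZero_X₂ _
        (isZero_single_obj_X (ComplexShape.up ℤ) 0 _ _ (by omega))).of_iso ((DerivedCategory.homologyFunctor _ k).mapIso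
          (eE ≪≫ (DerivedCategory.singleFunctorIsoCompQ X.Modules 0).app _) ≪≫ KFlat.hdIso _ k)) _)
      K.obj.obj K.obj.property n i (by omega)
  let R₀ : (Dual3.IsBddBelowQ X).FullSubcategory ⥤ DCoh.DQCoh X :=
    ObjectProperty.lift _ (Dual3.bddι X ⋙ ObjectProperty.ι _ ⋙ DCoh.RSheafHom E) hR
  obtain ⟨t⟩ := nonempty_natIso_restrict (ObjectProperty.fullyFaithfulι _) (adjQ.comp adj) (DCoh.RSheafHomAdj E)
    e (Dual3.bddι X) R₀ (ObjectProperty.liftCompιIso _ _ _)
  exact ⟨(Functor.isoWhiskerRight t (ObjectProperty.ι _)).symm ≪≫ ObjectProperty.liftCompιIso _ _ _⟩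

end Groth.Agent.FinDual
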